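import Groth.Agent.Pi1Field.Basic
import Groth.Agent.S12073
import Groth.Agent.SpectralTopology.AlgSystem
import Groth.Agent.Limits.DescentSetup
import Groth.Agent.Pi1FEt.Colimits

/-!
# Base change to an algebraic extension as a limit over finite subextensions
-/

universe u

set_option autoImplicit false
set_option backward.isDefEq.respectTransparency false
set_option backward.defeqAttrib.useBackward true
set_option linter.style.haveILetI false

open CategoryTheory CategoryTheory.Limits AlgebraicGeometry

namespace Groth.Pi1Field

variable {k : Type u} [Field k] (K : Type u) [Field K] [Algebra k K]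
  {X : Scheme.{u}} (f : X ⟶ Spec (CommRingCat.of k))

/-- `Spec` of the structure map of an extension. -/
noncomputable abbrev ext (k K : Type u) [Field k] [Field K] [Algebra k K] :
    Spec (CommRingCat.of K) ⟶ Spec (CommRingCat.of k) :=
  Spec.map (CommRingCat.ofHom (algebraMap k K))

/-- The projection to the base change along a subextension. -/
noncomputable def proj (L : IntermediateField k K) :
    pullback f (ext k K) ⟶ pullback f (ext k L) :=
  pullback.lift (pullback.fst _ _)
    (pullback.snd _ _ ≫ Spec.map (CommRingCat.ofHom (algebraMap L K)))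
    (by
      rw [Category.assoc]
      have : Spec.map (CommRingCat.ofHom (algebraMap L K)) ≫ ext k L = ext k K := by
        rw [← Spec.map_comp]
        exact congrArg (fun t => Spec.map (CommRingCat.ofHom t))
          (IsScalarTower.algebraMap_eq k L K).symm
      rw [this]
      exact pullback.condition)

@[reassoc (attr := simp)]
theorem proj_fst (L : IntermediateField k K) :
    proj K f L ≫ pullback.fst f (ext k L) = pullback.fst f (ext k K) :=
  pullback.lift_fst _ _ _

@[reassoc (attr := simp)]
theorem proj_snd (L : IntermediateField k K) :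
    proj K f L ≫ pullback.snd f (ext k L) =
      pullback.snd f (ext k K) ≫ Spec.map (CommRingCat.ofHom (algebraMap L K)) :=
  pullback.lift_snd _ _ _

/-- The system of finitely generated subalgebras maps to the base. -/
noncomputable def toBase :
    SpectralTopology.algSchemes (CommRingCat.of k) (CommRingCat.of K) ⟶
      (Functor.const _).obj (Spec (CommRingCat.of k)) where
  app s := SpectralTopology.algToBase (CommRingCat.of k) (CommRingCat.of K) s
  naturality _ _ m :=
    (SpectralTopology.algSchemes_map_toBase (CommRingCat.of k) (CommRingCat.of K) m).trans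
      (Category.comp_id _).symm

instance isCofiltered_algSub :
    IsCofiltered (SpectralTopology.AlgSub (CommRingCat.of k) (CommRingCat.of K))ᵒᵖ :=
  haveI : IsDirected (SpectralTopology.AlgSub (CommRingCat.of k) (CommRingCat.of K)) (· ≤ ·) :=
    ⟨fun s t => ⟨⟨s.1 ⊔ t.1, s.2.sup t.2⟩, le_sup_left (a := s.1), le_sup_right (a := s.1)⟩⟩
  haveI : Nonempty (SpectralTopology.AlgSub (CommRingCat.of k) (CommRingCat.of K)) :=
    ⟨⟨⊥, Subalgebra.fg_bot⟩⟩
  haveI : IsFiltered (SpectralTopology.AlgSub (CommRingCat.of k) (CommRingCat.of K)) :=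
    isFiltered_of_directed_le_nonempty _
  inferInstance

/-- The system of base changes. -/
noncomputable abbrev sys := Groth.Limits.bcDiagram (toBase K) f

/-- The cone over the system of base changes. -/
noncomputable abbrev sysCone : Cone (sys K f) :=
  Groth.Limits.bcCone (toBase K) f (SpectralTopology.algCone (CommRingCat.of k) (CommRingCat.of K))
    (ext k K) (SpectralTopology.algCone_π_toBase (CommRingCat.of k) (CommRingCat.of K))

/-- The cone is a limit. -/
noncomputable def isLimitSysCone : IsLimit (sysCone K f) :=
  Groth.Limits.isLimitBcCone (toBase K) f _ _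
    (SpectralTopology.algCone_π_toBase (CommRingCat.of k) (CommRingCat.of K))
    (SpectralTopology.isLimitAlgCone (CommRingCat.of k) (CommRingCat.of K))

instance isAffineHom_algSchemes_map (A B : (SpectralTopology.AlgSub (CommRingCat.of k) (CommRingCat.of K))ᵒᵖ)
    (m : A ⟶ B) :
    IsAffineHom ((SpectralTopology.algSchemes (CommRingCat.of k) (CommRingCat.of K)).map m) :=
  inferInstanceAs (IsAffineHom (Spec.map _))

instance compactSpace_sys [CompactSpace X] (s) : CompactSpace ↥((sys K f).obj s) := by
  haveI : IsAffineHom ((toBase K).app s) := inferInstanceAs (IsAffineHom (Spec.map _))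
  haveI : QuasiCompact (pullback.fst f ((toBase K).app s)) :=
    MorphismProperty.pullback_fst _ _ inferInstance
  exact QuasiCompact.compactSpace_of_compactSpace (pullback.fst f ((toBase K).app s))

instance quasiSeparatedSpace_sys [QuasiSeparatedSpace X] (s) :
    QuasiSeparatedSpace ↥((sys K f).obj s) := by
  haveI : IsAffineHom ((toBase K).app s) := inferInstanceAs (IsAffineHom (Spec.map _))
  haveI : QuasiSeparated (pullback.fst f ((toBase K).app s)) :=
    MorphismProperty.pullback_fst _ _ inferInstance
  exact quasiSeparatedSpace_of_quasiSeparated (pullback.fst f ((toBase K).app s))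

variable [Algebra.IsAlgebraic k K]

/-- Every stage is dominated by a finite subextension. -/
theorem exists_field_over (s : SpectralTopology.AlgSub (CommRingCat.of k) (CommRingCat.of K)) :
    ∃ (L : IntermediateField k K), FiniteDimensional k L ∧ ∀ (L' : IntermediateField k K), L ≤ L' →
      ∃ ψ : pullback f (ext k L') ⟶ (sys K f).obj (Opposite.op s),
        proj K f L' ≫ ψ = (sysCone K f).π.app (Opposite.op s) ∧
          ψ ≫ pullback.fst f ((toBase K).app (Opposite.op s)) = pullback.fst f (ext k L') := by
  classical
  obtain ⟨t, ht⟩ := s.2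
  let L : IntermediateField k K := IntermediateField.adjoin k (t : Set K)
  have hle : ∀ x : K, x ∈ s.1 → x ∈ L := by
    intro x hx
    rw [← ht] at hx
    exact IntermediateField.algebra_adjoin_le_adjoin k _ hx
  refine ⟨L, IntermediateField.finiteDimensional_adjoin fun x _ => Algebra.IsIntegral.isIntegral x,
    fun L' hL' => ?_⟩
  let j : (SpectralTopology.algDiagram (CommRingCat.of k) (CommRingCat.of K)).obj s ⟶ CommRingCat.of L' :=
    CommRingCat.ofHom
      { toFun := fun x => (⟨(x.1 : K), hL' (hle x.1 x.2)⟩ : L')
        map_one' := rfl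
        map_mul' := fun _ _ => rfl
        map_zero' := rfl
        map_add' := fun _ _ => rfl }
  have hj : Spec.map j ≫ (toBase K).app (Opposite.op s) = ext k L' := by
    change Spec.map j ≫ Spec.map _ = _
    rw [← Spec.map_comp]
    rfl
  refine ⟨pullback.lift (pullback.fst _ _) (pullback.snd f (ext k L') ≫ Spec.map j)
      (by rw [Category.assoc, hj]; exact pullback.condition), ?_, pullback.lift_fst _ _ _⟩
  apply pullback.hom_ext
  · simp [Groth.Limits.bcCone]
  · simp only [Category.assoc, pullback.lift_snd, proj_snd_assoc, Groth.Limits.bcCone]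
    rw [← Spec.map_comp]
    rfl

/-- Finite étale covers of the base change to `K` come from a finite subextension. -/
theorem exists_descend [CompactSpace X] [QuasiSeparatedSpace X]
    (V : FEt.Cat (pullback f (ext k K))) :
    ∃ (L : IntermediateField k K), FiniteDimensional k L ∧ ∀ L' : IntermediateField k K, L ≤ L' →
      ∃ VL : FEt.Cat (pullback f (ext k L')), Nonempty ((FEt.restrict (proj K f L')).obj VL ≅ V) := by
  obtain ⟨i, Vi, ⟨e⟩⟩ := (Groth.Agent.S12073.result (sys K f) (sysCone K f) (isLimitSysCone K f)).1 V
  obtain ⟨L, hL, hψ⟩ := exists_field_over K f i.unop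
  refine ⟨L, hL, fun L' hL' => ?_⟩
  obtain ⟨ψ, hψ, -⟩ := hψ L' hL'
  exact ⟨(FEt.restrict ψ).obj Vi, ⟨((Groth.Pi1FEt.restrictCompIso _ ψ).symm ≪≫
    Groth.Pi1FEt.restrictCongr hψ).app Vi ≪≫ e⟩⟩

/-- Finitely many maps from the base change to `K` come from a finite subextension. -/
theorem exists_descend_hom [CompactSpace X] [QuasiSeparatedSpace X] {U : Scheme.{u}} (g : U ⟶ X)
    [LocallyOfFinitePresentation g] {ι : Type*} [Finite ι] (a : ι → (pullback f (ext k K) ⟶ U))
    (ha : ∀ i, a i ≫ g = pullback.fst f (ext k K)) :
    ∃ (L : IntermediateField k K), FiniteDimensional k L ∧ ∀ L' : IntermediateField k K, L ≤ L' →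
      ∀ i, ∃ b : pullback f (ext k L') ⟶ U, proj K f L' ≫ b = a i ∧
        b ≫ g = pullback.fst f (ext k L') := by
  let t : sys K f ⟶ (Functor.const _).obj X :=
    { app := fun s => pullback.fst f ((toBase K).app s)
      naturality := fun _ _ m => by simp [Groth.Limits.bcDiagram] }
  have h1 : ∀ i, ∃ (L : IntermediateField k K), FiniteDimensional k L ∧
      ∀ L' : IntermediateField k K, L ≤ L' → ∃ b : pullback f (ext k L') ⟶ U,
        proj K f L' ≫ b = a i ∧ b ≫ g = pullback.fst f (ext k L') := by
    intro i
    obtain ⟨s, b, hb, hbg⟩ := Scheme.exists_π_app_comp_eq_of_locallyOfFinitePresentation (sys K f) t g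
      (sysCone K f) (isLimitSysCone K f) (a i) (by
        ext s
        simp [t, Groth.Limits.bcCone, ha])
    obtain ⟨L, hL, hψ⟩ := exists_field_over K f s.unop
    refine ⟨L, hL, fun L' hL' => ?_⟩
    obtain ⟨ψ, hψ, hψ2⟩ := hψ L' hL'
    refine ⟨ψ ≫ b, ?_, ?_⟩
    · rw [← Category.assoc, hψ]
      exact hb
    · rw [Category.assoc, hbg]
      exact hψ2
  choose L hL hb using h1
  haveI : ∀ i, FiniteDimensional k (L i) := hL
  exact ⟨⨆ i, L i, IntermediateField.finiteDimensional_iSup_of_finite,
    fun L' hL' i => hb i L' ((le_iSup L i).trans hL')⟩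

end Groth.Pi1Field
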