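import Groth.Agent.Pi1Field.Sep
import Groth.Agent.Pi1Etale.EqLocus
import Groth.Agent.Pi1FEt.SpecEquiv
import Mathlib.AlgebraicGeometry.Sites.Fpqc
import Mathlib.FieldTheory.Galois.Basic
import Mathlib.RingTheory.Etale.Field

/-!
# Connected covers split by a finite Galois extension of the ground field
-/

universe u

set_option autoImplicit false
set_option backward.isDefEq.respectTransparency false
set_option backward.defeqAttrib.useBackward true
set_option linter.style.haveILetI false

open CategoryTheory CategoryTheory.Limits AlgebraicGeometry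

namespace Groth.Pi1Field

variable {k : Type u} [Field k] {X : Scheme.{u}} (f : X ⟶ Spec (CommRingCat.of k))
  (L : Type u) [Field L] [Algebra k L]

/-- The twist of the base change by an automorphism of the extension. -/
noncomputable def twist (σ : L ≃ₐ[k] L) : pullback f (ext k L) ⟶ pullback f (ext k L) :=
  pullback.lift (pullback.fst _ _)
    (pullback.snd _ _ ≫ Spec.map (CommRingCat.ofHom σ.toAlgHom.toRingHom))
    (by
      rw [Category.assoc]
      have : Spec.map (CommRingCat.ofHom σ.toAlgHom.toRingHom) ≫ ext k L = ext k L := by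
        rw [← Spec.map_comp]
        exact congrArg (fun t => Spec.map (CommRingCat.ofHom t)) (AlgHom.comp_algebraMap σ.toAlgHom)
      rw [this]
      exact pullback.condition)

@[reassoc (attr := simp)]
theorem twist_fst (σ : L ≃ₐ[k] L) : twist f L σ ≫ pullback.fst _ _ = pullback.fst f (ext k L) :=
  pullback.lift_fst _ _ _

@[reassoc (attr := simp)]
theorem twist_snd (σ : L ≃ₐ[k] L) : twist f L σ ≫ pullback.snd _ _ =
    pullback.snd f (ext k L) ≫ Spec.map (CommRingCat.ofHom σ.toAlgHom.toRingHom) :=
  pullback.lift_snd _ _ _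

theorem twist_one : twist f L 1 = 𝟙 _ := by
  apply pullback.hom_ext
  · simp
  · simp only [twist_snd, Category.id_comp]
    exact (congrArg (pullback.snd f (ext k L) ≫ ·) (Spec.map_id _)).trans (Category.comp_id _)

theorem twist_mul (σ τ : L ≃ₐ[k] L) : twist f L (σ * τ) = twist f L σ ≫ twist f L τ := by
  apply pullback.hom_ext
  · simp
  · simp only [twist_snd, Category.assoc, twist_snd_assoc, ← Spec.map_comp]
    rfl

/-- Two field points of the base change over the same point of `X` differ by an automorphism. -/
theorem exists_twist [Normal k L] [FiniteDimensional k L] (Ω : Type u) [Field Ω]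
    (a b : Spec (CommRingCat.of Ω) ⟶ pullback f (ext k L))
    (h : a ≫ pullback.fst _ _ = b ≫ pullback.fst _ _) :
    ∃ σ : L ≃ₐ[k] L, b = a ≫ twist f L σ := by
  obtain ⟨α, hα⟩ := Spec.map_surjective (a ≫ pullback.snd _ _)
  obtain ⟨β, hβ⟩ := Spec.map_surjective (b ≫ pullback.snd _ _)
  have hk : β.hom.comp (algebraMap k L) = α.hom.comp (algebraMap k L) := by
    have h1 : Spec.map (CommRingCat.ofHom (algebraMap k L) ≫ β) =
        Spec.map (CommRingCat.ofHom (algebraMap k L) ≫ α) := by
      rw [Spec.map_comp, Spec.map_comp, hα, hβ, Category.assoc, Category.assoc]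
      show b ≫ pullback.snd f (ext k L) ≫ ext k L = a ≫ pullback.snd f (ext k L) ≫ ext k L
      rw [← pullback.condition, reassoc_of% h]
    exact congrArg CommRingCat.Hom.hom (Spec.map_injective h1)
  letI : Algebra L Ω := α.hom.toAlgebra
  letI : Algebra k Ω := (α.hom.comp (algebraMap k L)).toAlgebra
  haveI : IsScalarTower k L Ω := IsScalarTower.of_algebraMap_eq' rfl
  let βA : L →ₐ[k] Ω := { toRingHom := β.hom, commutes' := fun r => RingHom.congr_fun hk r }
  refine ⟨AlgEquiv.ofBijective (βA.restrictNormal L) (Algebra.IsAlgebraic.algHom_bijective _), ?_⟩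
  apply pullback.hom_ext
  · rw [Category.assoc, twist_fst, h]
  · rw [Category.assoc, twist_snd, ← Category.assoc, ← hα, ← hβ, ← Spec.map_comp]
    congr 1
    refine CommRingCat.hom_ext (RingHom.ext fun x => ?_)
    exact (AlgHom.restrictNormal_commutes βA L x).symm

variable [FiniteDimensional k L] [IsGalois k L]

/-- A connected cover with a point over a finite Galois extension comes from the ground field. -/
theorem exists_iso_of_point [ConnectedSpace ↥(pullback f (ext k L))] (X' : FEt.Cat X)
    [ConnectedSpace X'.left] (s : pullback f (ext k L) ⟶ X'.left)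
    (hs : s ≫ X'.hom = pullback.fst f (ext k L)) :
    ∃ S' : FEt.Cat (Spec (CommRingCat.of k)), Nonempty ((FEt.restrict f).obj S' ≅ X') := by
  let g : X'.left ⟶ X := X'.hom
  haveI : IsFinite g := X'.prop.1
  haveI : Etale g := X'.prop.2
  let H : Subgroup (L ≃ₐ[k] L) :=
    { carrier := {σ | twist f L σ ≫ s = s}
      one_mem' := by simp [twist_one]
      mul_mem' := fun {σ τ} hσ hτ => by
        show twist f L (σ * τ) ≫ s = s
        rw [twist_mul, Category.assoc, (hτ : twist f L τ ≫ s = s)]
        exact hσ
      inv_mem' := fun {σ} hσ => by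
        show twist f L σ⁻¹ ≫ s = s
        conv_lhs => rw [← (hσ : twist f L σ ≫ s = s), ← Category.assoc, ← twist_mul,
          inv_mul_cancel, twist_one, Category.id_comp] }
  let M := IntermediateField.fixedField H
  have hM : ∀ σ : L ≃ₐ[k] L, (∀ m : M, σ (m : L) = m) → σ ∈ H := fun σ hσ => by
    rw [← IntermediateField.fixingSubgroup_fixedField H, IntermediateField.mem_fixingSubgroup_iff]
    exact fun x hx => hσ ⟨x, hx⟩
  let q : pullback f (ext k L) ⟶ pullback f (ext k M) := proj L f M
  haveI : Flat (ext M L) :=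
    (HasRingHomProperty.Spec_iff (P := @Flat)).mpr (RingHom.flat_algebraMap_iff.mpr inferInstance)
  haveI : Flat q := MorphismProperty.of_isPullback (P := @Flat) (isPullback_proj f L M).flip inferInstance
  haveI : IsAffineHom (ext M L) := inferInstanceAs (IsAffineHom (Spec.map _))
  haveI : IsAffineHom q :=
    MorphismProperty.of_isPullback (P := @IsAffineHom) (isPullback_proj f L M).flip inferInstance
  have hq : ∀ {Ω : Type u} [Field Ω] (a b : Spec (CommRingCat.of Ω) ⟶ pullback f (ext k L)),
      a ≫ q = b ≫ q → a ≫ s = b ≫ s := by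
    intro Ω _ a b hab
    have h1 : a ≫ pullback.fst _ _ = b ≫ pullback.fst _ _ := by
      rw [← proj_fst L f M, ← Category.assoc, ← Category.assoc, hab]
    obtain ⟨σ, rfl⟩ := exists_twist f L Ω a b h1
    obtain ⟨α, hα⟩ := Spec.map_surjective (a ≫ pullback.snd f (ext k L))
    have hσ : σ ∈ H := hM σ fun m => by
      have h2 := congrArg (· ≫ pullback.snd f (ext k M)) hab
      simp only [Category.assoc, q, proj_snd, twist_snd_assoc] at h2
      rw [← reassoc_of% hα, ← Category.assoc, ← Category.assoc, ← hα] at h2
      simp only [← Spec.map_comp, Category.assoc] at h2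
      have h3 := RingHom.congr_fun (congrArg CommRingCat.Hom.hom (Spec.map_injective h2)) m
      exact (α.hom.injective h3).symm
    rw [Category.assoc, (hσ : twist f L σ ≫ s = s)]
  have hdesc : pullback.fst q q ≫ s = pullback.snd q q ≫ s := by
    have w : (pullback.fst q q ≫ s) ≫ g = (pullback.snd q q ≫ s) ≫ g := by
      rw [Category.assoc, Category.assoc, hs, ← proj_fst L f M, pullback.condition_assoc]
    refine Groth.Pi1Etale.eq_of_agreeι_surjective g _ _ w ⟨fun z => ?_⟩
    let Ω := AlgebraicClosure ((pullback q q).residueField z)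
    let e : Spec (CommRingCat.of Ω) ⟶ pullback q q :=
      Spec.map (CommRingCat.ofHom (algebraMap ((pullback q q).residueField z) Ω)) ≫ (pullback q q).fromSpecResidueField z
    have he : e ≫ pullback.fst q q ≫ s = e ≫ pullback.snd q q ≫ s := by
      rw [← Category.assoc, ← Category.assoc]
      exact hq _ _ (by simp [e, pullback.condition])
    exact Groth.Pi1Etale.range_subset_range_agreeι g _ _ w e he
      ⟨IsLocalRing.closedPoint Ω, by
        simp only [e, Scheme.Hom.comp_apply]
        exact Scheme.fromSpecResidueField_apply _ _⟩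
  let u : pullback f (ext k M) ⟶ X'.left := EffectiveEpi.desc q s fun g₁ g₂ hg => by
    have := congrArg (pullback.lift g₁ g₂ hg ≫ ·) hdesc
    simpa using this
  have hu : q ≫ u = s := EffectiveEpi.fac q s _
  have hug : u ≫ g = pullback.fst f (ext k M) := by
    rw [← cancel_epi q, reassoc_of% hu]
    exact hs.trans (proj_fst L f M).symm
  haveI : Algebra.Etale k M :=
    ⟨Algebra.FormallyEtale.of_isSeparable k M, Algebra.FinitePresentation.of_finiteType.mp inferInstance⟩
  let S' : FEt.Cat (Spec (CommRingCat.of k)) :=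
    Groth.Pi1FEt.specObj k (CommAlgCat.FiniteEtale.of k M)
  haveI : IsFinite (ext k M) := S'.prop.1
  haveI : Etale (ext k M) := S'.prop.2
  haveI : IsFinite (pullback.fst f (ext k M)) := MorphismProperty.pullback_fst _ _ inferInstance
  haveI : Etale (pullback.fst f (ext k M)) := MorphismProperty.pullback_fst _ _ inferInstance
  haveI : IsFinite (u ≫ g) := by rw [hug]; infer_instance
  haveI : Etale (u ≫ g) := by rw [hug]; infer_instance
  haveI : IsFinite u := IsFinite.of_comp u g
  haveI : Etale u := Etale.of_comp u g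
  haveI : Surjective u := by
    refine ⟨Set.range_eq_univ.mp ?_⟩
    refine (isClopen_iff.mp ⟨u.isClosedMap.isClosed_range, u.isOpenMap.isOpen_range⟩).resolve_left ?_
    exact Set.nonempty_iff_ne_empty.mp ⟨u.base (q.base (Classical.arbitrary _)), ⟨_, rfl⟩⟩
  haveI : UniversallyInjective u := by
    refine ((tfae_universallyInjective _).out 0 1).mpr ?_
    intro K instK x y hxy
    change x ≫ u = y ≫ u at hxy
    let Ω := AlgebraicClosure K
    let p : Spec (CommRingCat.of Ω) ⟶ Spec (CommRingCat.of K) := ext K Ω
    haveI : Flat p :=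
      (HasRingHomProperty.Spec_iff (P := @Flat)).mpr (RingHom.flat_algebraMap_iff.mpr inferInstance)
    haveI : IsAffineHom p := inferInstanceAs (IsAffineHom (Spec.map _))
    rw [← cancel_epi p]
    have hlift : ∀ z : Spec (CommRingCat.of Ω) ⟶ pullback f (ext k M), ∃ a, a ≫ q = z := by
      intro z
      obtain ⟨α, hα⟩ := Spec.map_surjective (z ≫ pullback.snd _ _)
      letI : Algebra M Ω := α.hom.toAlgebra
      let l : L →ₐ[M] Ω := IsAlgClosed.lift
      let l' : CommRingCat.of L ⟶ CommRingCat.of Ω := CommRingCat.ofHom l.toRingHom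
      have hl : CommRingCat.ofHom (algebraMap M L) ≫ l' = α :=
        CommRingCat.hom_ext l.comp_algebraMap
      refine ⟨(isPullback_proj f L M).lift z (Spec.map l') ?_, (isPullback_proj f L M).lift_fst _ _ _⟩
      rw [← hα, ← hl, Spec.map_comp]
    obtain ⟨a, ha⟩ := hlift (p ≫ x)
    obtain ⟨b, hb⟩ := hlift (p ≫ y)
    have hab : a ≫ s = b ≫ s := by
      rw [← hu, reassoc_of% ha, reassoc_of% hb, hxy]
    have h1 : a ≫ pullback.fst _ _ = b ≫ pullback.fst _ _ := by
      rw [← hs, ← Category.assoc, ← Category.assoc, hab]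
    obtain ⟨σ, rfl⟩ := exists_twist f L Ω a b h1
    rw [Category.assoc] at hab
    have hσ : σ ∈ H := by
      refine (Groth.Pi1Etale.eq_of_comp_eq_of_connected g s (twist f L σ ≫ s) ?_ a hab).symm
      rw [Category.assoc, hs, twist_fst]
    have hσm : ∀ m : M, σ (m : L) = m := fun m => m.2 ⟨σ, hσ⟩
    rw [← ha, ← hb, Category.assoc]
    congr 1
    apply pullback.hom_ext
    · simp [q]
    · simp only [q, Category.assoc, proj_snd, twist_snd_assoc, ← Spec.map_comp]
      congr 2
      exact CommRingCat.hom_ext (RingHom.ext fun m => (hσm m).symm)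
  haveI : IsIso u := Groth.Pi1Etale.isIso_of_etale_universallyInjective_surjective u
  refine ⟨S', ⟨MorphismProperty.Over.isoMk (pullbackSymmetry (ext k M) f ≪≫ asIso u) ?_⟩⟩
  change (pullbackSymmetry (ext k M) f).hom ≫ u ≫ g = pullback.snd (ext k M) f
  rw [hug]
  exact pullbackSymmetry_hom_comp_fst _ _

end Groth.Pi1Field
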