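import Groth.Agent.Pi1FEt.FullClopen
import Mathlib.AlgebraicGeometry.AlgClosed.Basic
import Mathlib.FieldTheory.IsAlgClosed.AlgebraicClosure

/-!
# Finite étale covers of a field and geometrically connected schemes
-/

universe u

set_option autoImplicit false
set_option backward.isDefEq.respectTransparency false
set_option linter.style.haveILetI false

open CategoryTheory CategoryTheory.Limits AlgebraicGeometry

namespace Groth.Pi1Field

variable {k : Type u} [Field k]

/-- The base change of `Spec k` to the algebraic closure. -/
noncomputable abbrev geomPt (k : Type u) [Field k] :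
    Spec (CommRingCat.of (AlgebraicClosure k)) ⟶ Spec (CommRingCat.of k) :=
  Spec.map (CommRingCat.ofHom (algebraMap k (AlgebraicClosure k)))

instance surjective_geomPt : Surjective (geomPt k) :=
  ⟨fun y => ⟨IsLocalRing.closedPoint (AlgebraicClosure k), Subsingleton.elim _ _⟩⟩

theorem exists_point_over {W : Scheme.{u}} (h : W ⟶ Spec (CommRingCat.of k)) [IsFinite h] (w : W) :
    ∃ s : Spec (CommRingCat.of (AlgebraicClosure k)) ⟶ W, s ≫ h = geomPt k ∧
      ∀ t, s.base t = w := by
  obtain ⟨z, hz, -⟩ := Scheme.Pullback.exists_preimage_pullback (f := h) (g := geomPt k) w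
    (IsLocalRing.closedPoint (AlgebraicClosure k)) (Subsingleton.elim _ _)
  haveI : IsFinite (pullback.snd h (geomPt k)) := MorphismProperty.pullback_snd _ _ inferInstance
  have hfin : Finite ↥(pullback h (geomPt k)) := by
    have := (pullback.snd h (geomPt k)).finite_preimage_singleton
      (IsLocalRing.closedPoint (AlgebraicClosure k))
    have huniv : (pullback.snd h (geomPt k)).base ⁻¹' {IsLocalRing.closedPoint (AlgebraicClosure k)}
        = Set.univ := Set.eq_univ_of_forall fun _ => Subsingleton.elim _ _
    exact Set.finite_univ_iff.mp (huniv ▸ this)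
  haveI := hfin
  haveI : JacobsonSpace ↥(pullback h (geomPt k)) :=
    LocallyOfFiniteType.jacobsonSpace (pullback.snd h (geomPt k))
  haveI : DiscreteTopology ↥(pullback h (geomPt k)) := inferInstance
  refine ⟨pointOfClosedPoint (pullback.snd h (geomPt k)) z (isClosed_discrete _) ≫ pullback.fst _ _,
    ?_, fun t => ?_⟩
  · rw [Category.assoc, pullback.condition, pointOfClosedPoint_comp_assoc]
  · rw [Scheme.Hom.comp_apply, pointOfClosedPoint_apply, hz]

variable {X : Scheme.{u}} (f : X ⟶ Spec (CommRingCat.of k))

/-- A point of a finite `k`-scheme has connected preimage in its base change to a geometrically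
connected scheme. -/
theorem isPreconnected_preimage [ConnectedSpace ↥(pullback f (geomPt k))] {A : Scheme.{u}}
    (h : A ⟶ Spec (CommRingCat.of k)) [IsFinite h] (a : A) :
    _root_.IsPreconnected ((pullback.fst h f).base ⁻¹' {a}) := by
  obtain ⟨s, hs, hsa⟩ := exists_point_over h a
  let m : pullback f (geomPt k) ⟶ pullback h f :=
    pullback.lift (pullback.snd f (geomPt k) ≫ s) (pullback.fst f (geomPt k))
      (by rw [Category.assoc, hs, pullback.condition])
  have hm : IsPullback m (pullback.snd f (geomPt k)) (pullback.fst h f) s := by
    refine IsPullback.of_right ?_ (pullback.lift_fst _ _ _) (IsPullback.of_hasPullback h f).flip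
    rw [pullback.lift_snd, hs]
    exact IsPullback.of_hasPullback f (geomPt k)
  have hrange : Set.range m.base = (pullback.fst h f).base ⁻¹' {a} := by
    ext y
    constructor
    · rintro ⟨x, rfl⟩
      show (pullback.fst h f).base (m.base x) = a
      rw [← Scheme.Hom.comp_apply, hm.w, Scheme.Hom.comp_apply, hsa]
    · intro hy
      obtain ⟨z, hz, -⟩ := Scheme.Pullback.exists_preimage_pullback (f := pullback.fst h f) (g := s)
        y (IsLocalRing.closedPoint (AlgebraicClosure k)) (hy.trans (hsa _).symm)
      exact ⟨hm.isoPullback.inv.base z, by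
        rw [← Scheme.Hom.comp_apply, hm.isoPullback_inv_fst]; exact hz⟩
  rw [← hrange]
  exact isPreconnected_range m.continuous

end Groth.Pi1Field
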